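import Cfsg.Agent.RootInvolutions.Normal
import Cfsg.Agent.RankOne.Classify.GlueBender

/-!
Root involutions with a disconnected commuting graph: one class, the graph survives in the simple
quotient, and the classification from a strongly embedded subgroup there.
-/

set_option autoImplicit false

universe u

namespace CfsgLib.RootInv99

open Cfsg CfsgLib.RootInv

/-- In a simple group a disconnected commuting graph gives a strongly embedded subgroup. -/
def SEHyp : Prop :=
  ∀ (G : Type u) [Group G] [Finite G] [IsSimpleGroup G] (D : Set G), IsRootInvolutionSet D →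
    OneClass D → (∃ a b, Line D a b) → ¬ IsConnectedSet (CommAdj D) D →
      ∃ H : Subgroup G, IsStronglyEmbedded H

/-- Reachability in the commuting graph. -/
abbrev CReach {G : Type*} [Group G] (D : Set G) : G → G → Prop := Relation.ReflTransGen (CommAdj D)

section Graph

variable {G : Type*} [Group G] {D : Set G} (hD : IsRootInvolutionSet D)

theorem creach_of_commute {a b : G} (ha : a ∈ D) (hb : b ∈ D) (h : Commute a b) : CReach D a b := by
  by_cases he : a = b
  · subst he; exact Relation.ReflTransGen.refl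
  · exact .single ⟨ha, hb, he, h.eq⟩

include hD

theorem creach_of_pow_four {a b : G} (ha : a ∈ D) (hb : b ∈ D) (h4 : (a * b) ^ 4 = 1) :
    CReach D a b := by
  by_cases hc : Commute a b
  · exact creach_of_commute ha hb hc
  · have hz := sq_mem hD ha hb hc h4
    exact (creach_of_commute ha hz (commute_sq_left hD ha hb h4).symm).trans
      (creach_of_commute hz hb (commute_sq_right hD ha hb h4))

/-- A disconnected commuting graph leaves only one component of odd products. -/
theorem oddConnected_of_disconnected (hdis : ¬ IsConnectedSet (CommAdj D) D) :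
    IsConnectedSet (OddAdj D) D := by
  intro a ha b hb
  by_contra hab
  have key : ∀ {u w : G}, u ∈ D → w ∈ D → ¬ Reach D u w → CReach D u w := fun {u w} hu hw h =>
    creach_of_pow_four hD hu hw
      ((odd_or_pow_four hD hu hw).resolve_left fun h' => h (.single ⟨hu, hw, h'.1, h'.2⟩))
  apply hdis
  intro u hu v hv
  by_cases huv : Reach D u v
  · obtain ⟨w, hw, huw⟩ : ∃ w ∈ D, ¬ Reach D u w := by
      by_cases h1 : Reach D u a
      · exact ⟨b, hb, fun h2 => hab ((Reach.symm' hD h1).trans h2)⟩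
      · exact ⟨a, ha, h1⟩
    exact (key hu hw huw).trans
      (key hw hv fun h => huw (huv.trans (Reach.symm' hD h)))
  · exact key hu hv huv

variable [Finite G]

/-- A member lies outside the preimage of the centre modulo the 2-core. -/
theorem notMem_twoZCore (hone : OneClass D) {a b : G} (hl : Line D a b) {d : G} (hd : d ∈ D) :
    d ∉ twoZCore G := by
  intro h
  refine twoZCore_ne_top hD hone hl ?_
  rw [eq_top_iff, ← hD.generates, Subgroup.closure_le]
  intro x hx
  obtain ⟨g, rfl⟩ := hone d hd x hx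
  exact (inferInstance : (twoZCore G).Normal).conj_mem d h g

/-- Members with product in the preimage of the centre modulo the 2-core have a 4-product. -/
theorem eq_of_mul_mem_twoZCore {a b : G} (ha : a ∈ D) (hb : b ∈ D) (ho : Odd (orderOf (a * b)))
    (hm : a * b ∈ twoZCore G) : a = b := by
  have hc : ∀ y, Commute y (QuotientGroup.mk' (pCore 2 G) (a * b)) := fun y =>
    Subgroup.mem_center_iff.mp hm y
  have e : a * (a * b) * a * (a * b) = 1 := by
    rw [show a * (a * b) * a * (a * b) = (a * a) * b * (a * a) * b by group, mul_self hD ha,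
      one_mul, mul_one, mul_self hD hb]
  have h2 : QuotientGroup.mk' (pCore 2 G) (a * b) * QuotientGroup.mk' (pCore 2 G) (a * b) = 1 := by
    have h := congrArg (QuotientGroup.mk' (pCore 2 G)) e
    rw [map_one, map_mul, map_mul, map_mul _ a (a * b)] at h
    rwa [(hc (QuotientGroup.mk' (pCore 2 G) a)).eq, mul_assoc (QuotientGroup.mk' (pCore 2 G) (a * b)),
      ← map_mul _ a a, mul_self hD ha, map_one, mul_one] at h
  have h1 := eq_one_of_sq_of_odd h2 (ho.of_dvd_nat (orderOf_map_dvd _ _))
  obtain ⟨k, hk⟩ := LocalP.isPGroup_pCore (G := G) (p := 2)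
    ⟨a * b, (QuotientGroup.eq_one_iff _).mp h1⟩
  have h3 := eq_one_of_two_pow_of_odd (congrArg Subtype.val hk) ho
  rw [← inv_self hD hb]
  exact eq_inv_of_mul_eq_one_left h3

end Graph

section Quot

variable {G : Type u} [Group G] [Finite G] {D : Set G} (hD : IsRootInvolutionSet D)
  (hone : OneClass D) {a b : G} (hl : Line D a b)

include hD hone hl

/-- The image in the simple quotient. -/
theorem image_isRootInvolutionSet :
    IsRootInvolutionSet (QuotientGroup.mk' (twoZCore G) '' D) := by
  refine ⟨?_, ?_, ?_, ?_⟩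
  · rintro _ ⟨d, hd, rfl⟩
    refine orderOf_eq_prime ?_ fun h => notMem_twoZCore hD hone hl hd ((QuotientGroup.eq_one_iff d).mp h)
    rw [← map_pow, pow_two, mul_self hD hd, map_one]
  · rw [← MonoidHom.map_closure, hD.generates,
      Subgroup.map_top_of_surjective _ (QuotientGroup.mk'_surjective _)]
  · rintro _ ⟨d, hd, rfl⟩ y
    obtain ⟨g, rfl⟩ := QuotientGroup.mk'_surjective _ y
    exact ⟨g * d * g⁻¹, hD.conj_mem d hd g, by rw [map_mul, map_mul, map_inv]⟩
  · rintro _ ⟨x, hx, rfl⟩ _ ⟨y, hy, rfl⟩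
    set π := QuotientGroup.mk' (twoZCore G)
    rcases hD.pair x hx y hy with h | h | ⟨h4, hz⟩
    · exact Or.inl (by rw [← map_mul, h, map_mul])
    · exact Or.inr (Or.inl (by rw [← map_mul]; exact h.of_dvd_nat (orderOf_map_dvd π _)))
    · by_cases h2 : π (x * y) ^ 2 = 1
      · left
        have hx1 : π x * π x = 1 := by rw [← map_mul, mul_self hD hx, map_one]
        have hy1 : π y * π y = 1 := by rw [← map_mul, mul_self hD hy, map_one]
        have := inv_eq_of_mul_eq_one_right (by rw [← pow_two]; exact h2 : π (x * y) * π (x * y) = 1)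
        rw [map_mul, mul_inv_rev, inv_eq_of_mul_eq_one_right hx1, inv_eq_of_mul_eq_one_right hy1] at this
        exact this.symm
      · refine Or.inr (Or.inr ⟨?_, ⟨_, hz, by rw [map_pow, map_mul]⟩⟩)
        rw [← map_mul]
        exact orderOf_eq_prime_pow (p := 2) (n := 1) (by simpa using h2)
          (by rw [← map_pow, show 2 ^ (1 + 1) = orderOf (x * y) by rw [h4]; norm_num,
            pow_orderOf_eq_one, map_one])

/-- Paths in the quotient lift. -/
theorem creach_of_image {x y : G} (hx : x ∈ D) (hy : y ∈ D)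
    (h : CReach (QuotientGroup.mk' (twoZCore G) '' D) (QuotientGroup.mk' (twoZCore G) x)
      (QuotientGroup.mk' (twoZCore G) y)) : CReach D x y := by
  set π := QuotientGroup.mk' (twoZCore G)
  have step : ∀ {u v : G}, u ∈ D → v ∈ D → Commute (π u) (π v) → CReach D u v := by
    intro u v hu hv hc
    refine creach_of_pow_four hD hu hv ((odd_or_pow_four hD hu hv).resolve_left ?_)
    rintro ⟨hne, ho⟩
    have h2 : π (u * v) * π (u * v) = 1 := by
      rw [map_mul, mul_assoc, ← mul_assoc (π v), ← hc.eq, mul_assoc (π u), ← map_mul _ v v,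
        mul_self hD hv, map_one, mul_one, ← map_mul, mul_self hD hu, map_one]
    exact hne (eq_of_mul_mem_twoZCore hD hu hv ho ((QuotientGroup.eq_one_iff _).mp
      (eq_one_of_sq_of_odd h2 (ho.of_dvd_nat (orderOf_map_dvd π _)))))
  generalize he : π y = z at h
  induction h generalizing y with
  | refl => exact step hx hy (by rw [he])
  | tail _ hadj ih =>
    obtain ⟨w, hw, hwe⟩ := hadj.1
    exact (ih hw hwe).trans (step hw hy (by rw [hwe, he]; exact hadj.2.2.2))

/-- The classification of the disconnected case in one class. -/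
theorem classify (hSE : SEHyp.{u}) (hP : RankOneClassify.AllPPlus.{u})
    (hp : RankOneClassify.Pieces.{u, u}) (hdis : ¬ IsConnectedSet (CommAdj D) D) :
    (∃ (F : Type) (_ : Field F) (_ : Fintype F), CharP F 2 ∧ 4 ≤ Fintype.card F ∧
      Nonempty (G ⧸ twoZCore G ≃* Matrix.ProjectiveSpecialLinearGroup (Fin 2) F)) ∨
    Cfsg.Lie.IsoSuzuki (G ⧸ twoZCore G) ∨
    (∃ (F : Type) (_ : Field F) (_ : Fintype F) (q : ℕ), CharP F 2 ∧ Fintype.card F = q ^ 2 ∧ 4 ≤ q ∧
      Nonempty (G ⧸ twoZCore G ≃* Cfsg.PSU 3 F q)) := by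
  haveI := (solvableRadical_and_simple hD hone hl).2
  set π := QuotientGroup.mk' (twoZCore G) with hπ
  have hone' : OneClass (π '' D) := by
    rintro _ ⟨x, hx, rfl⟩ _ ⟨y, hy, rfl⟩
    obtain ⟨g, rfl⟩ := hone x hx y hy
    exact ⟨π g, by rw [map_mul, map_mul, map_inv]⟩
  have hdis' : ¬ IsConnectedSet (CommAdj (π '' D)) (π '' D) := fun hc => hdis fun x hx y hy =>
    creach_of_image hD hone hl hx hy (hc _ ⟨x, hx, rfl⟩ _ ⟨y, hy, rfl⟩)
  obtain ⟨H, hH⟩ := hSE _ (π '' D) (image_isRootInvolutionSet hD hone hl) hone'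
    ⟨π a, π b, ⟨a, hl.1, rfl⟩, ⟨b, hl.2.1, rfl⟩, ⟨a * b, hl.2.2, map_mul π a b⟩⟩ hdis'
  obtain ⟨h2, hcore⟩ := RankOneClassify.rankTwo_of_simple hH
  obtain ⟨Q, hQ, -, -⟩ := hP _ H hH h2 hcore
  haveI : Fact (Nat.Prime 2) := ⟨Nat.prime_two⟩
  rcases RankOneClassify.simple_list hp hH hQ with
    ⟨F, hFi, hFt, n, hn, hF, e⟩ | h | ⟨F, hFi, hFt, n, hn, hF, e⟩
  · letI := hFi; letI := hFt
    exact Or.inl ⟨F, hFi, hFt, charP_of_card_eq_prime_pow hF,
      hF ▸ le_trans (by norm_num) (Nat.pow_le_pow_right two_pos hn), e⟩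
  · exact Or.inr (Or.inl h)
  · letI := hFi; letI := hFt
    refine Or.inr (Or.inr ⟨F, hFi, hFt, 2 ^ n, charP_of_card_eq_prime_pow (f := n * 2) ?_, hF,
      le_trans (by norm_num) (Nat.pow_le_pow_right two_pos hn), e⟩)
    rw [hF, pow_mul]

end Quot

/-- The shape of S5044. -/
theorem disconnected_list {G : Type u} [Group G] [Finite G] {D : Set G} (hSE : SEHyp.{u})
    (hP : RankOneClassify.AllPPlus.{u}) (hp : RankOneClassify.Pieces.{u, u})
    (hD : IsRootInvolutionSet D) (hDD : (D ∩ commutingProducts D).Nonempty) :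
    IsConnectedSet (CommAdj D) D ∨
    (∃ (F : Type) (_ : Field F) (_ : Fintype F), CharP F 2 ∧ 4 ≤ Fintype.card F ∧
      Nonempty (G ⧸ twoZCore G ≃* Matrix.ProjectiveSpecialLinearGroup (Fin 2) F)) ∨
    Cfsg.Lie.IsoSuzuki (G ⧸ twoZCore G) ∨
    (∃ (F : Type) (_ : Field F) (_ : Fintype F) (q : ℕ), CharP F 2 ∧ Fintype.card F = q ^ 2 ∧ 4 ≤ q ∧
      Nonempty (G ⧸ twoZCore G ≃* Cfsg.PSU 3 F q)) := by
  refine or_iff_not_imp_left.mpr fun hdis => ?_
  obtain ⟨f, hf, a, ha, b, hb, -, -, rfl⟩ := hDD
  exact classify hD (oneClass_of_connected hD (oddConnected_of_disconnected hD hdis))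
    (a := a) (b := b) ⟨ha, hb, hf⟩ hSE hP hp hdis

end CfsgLib.RootInv99
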