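import Cfsg.Agent.RootInvolutions.Recognise99
import Cfsg.Agent.RootInvolutions.Disconnected.Main
import Cfsg.Agent.RankOne.Classify.PiecesProof
import Cfsg.Agent.RankOne.Classify.AllPPlusProof

/-!
The shapes of S5044 and S5051 from the strongly embedded criterion alone.
-/

set_option autoImplicit false

universe u

namespace CfsgLib.RootInv99

open Cfsg CfsgLib.RootInv

theorem disconnected_list_of_criterion (hc : RankOneBN.Criterion.{u}) {G : Type u} [Group G] [Finite G]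
    {D : Set G} (hD : IsRootInvolutionSet D) (hDD : (D ∩ commutingProducts D).Nonempty) :
    IsConnectedSet (CommAdj D) D ∨
    (∃ (F : Type) (_ : Field F) (_ : Fintype F), CharP F 2 ∧ 4 ≤ Fintype.card F ∧
      Nonempty (G ⧸ twoZCore G ≃* Matrix.ProjectiveSpecialLinearGroup (Fin 2) F)) ∨
    Cfsg.Lie.IsoSuzuki (G ⧸ twoZCore G) ∨
    (∃ (F : Type) (_ : Field F) (_ : Fintype F) (q : ℕ), CharP F 2 ∧ Fintype.card F = q ^ 2 ∧ 4 ≤ q ∧
      Nonempty (G ⧸ twoZCore G ≃* Cfsg.PSU 3 F q)) :=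
  disconnected_list (RootPoints.seHyp hc) RankOneClassify.allPPlus RankOneClassify.pieces hD hDD

theorem recognise_of_criterion (hc : RankOneBN.Criterion.{u}) {G : Type u} [Group G] [Finite G]
    {D : Set G} (hD : Cfsg.IsOddTranspositionSet D) {d x : G} (hd : d ∈ D)
    (hx : x ∈ Cfsg.oddPartners D d) :
    (∃ (F : Type) (_ : Field F) (_ : Fintype F), CharP F 2 ∧ 4 ≤ Fintype.card F ∧
      Nonempty ((↥(Subgroup.closure (Cfsg.sameCommutingClass D d ∪ {x})) ⧸
        Cfsg.pCore 2 ↥(Subgroup.closure (Cfsg.sameCommutingClass D d ∪ {x}))) ≃* Matrix.ProjectiveSpecialLinearGroup (Fin 2) F)) ∨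
    Cfsg.Lie.IsoSuzuki ((↥(Subgroup.closure (Cfsg.sameCommutingClass D d ∪ {x})) ⧸
        Cfsg.pCore 2 ↥(Subgroup.closure (Cfsg.sameCommutingClass D d ∪ {x})))) ∨
    (∃ n : ℕ, Nonempty ((↥(Subgroup.closure (Cfsg.sameCommutingClass D d ∪ {x})) ⧸
        Cfsg.pCore 2 ↥(Subgroup.closure (Cfsg.sameCommutingClass D d ∪ {x}))) ≃* DihedralGroup n)) :=
  recognise (RootPoints.seHyp hc) RankOneClassify.allPPlus RankOneClassify.pieces hD hd hx

end CfsgLib.RootInv99
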