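import Cfsg.Agent.RootInvolutions.Reduce99
import Cfsg.Agent.RootInvolutions.U3Excl99
import Cfsg.Agent.RootInvolutions.Classify99
import Cfsg.Agent.Cores.TwoGenSylow
import Cfsg.Agent.S0262
import Cfsg.Agent.S0331
import Cfsg.Agent.Suzuki.LieModel

/-!
The recognition of `⟨E_d, x⟩` modulo its 2-core for odd transpositions, from the classification
of the classes with disconnected commuting graph.
-/

set_option autoImplicit false

namespace CfsgLib.RootInv99

open Cfsg CfsgLib.RootInv
open scoped commutatorElement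

universe u

section Cyclic

variable {Y K : Type*} [Group Y] [Finite Y] [Group K]

/-- A perfect central extension of a group with cyclic Sylow `p`-subgroups has a centre of order prime to `p`. -/
theorem center_not_dvd {p : ℕ} [Fact p.Prime] [Finite K] (hperf : commutator Y = ⊤) (φ : Y →* K)
    (hφ : Function.Surjective φ) (hk : φ.ker ≤ Subgroup.center Y)
    (hcyc : ∀ P : Sylow p K, IsCyclic (P : Subgroup K)) {z : Y} (hz : z ∈ Subgroup.center Y)
    (hzp : ∃ k : ℕ, z ^ p ^ k = 1) : z = 1 := by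
  obtain ⟨k, hk'⟩ := hzp
  have hzP : IsPGroup p (Subgroup.zpowers z) := fun g => ⟨k, by
    obtain ⟨g, n, rfl⟩ := g
    apply Subtype.ext
    simp only [SubgroupClass.coe_pow, OneMemClass.coe_one]
    rw [← zpow_natCast, ← zpow_mul, mul_comm, zpow_mul, zpow_natCast, hk', one_zpow]⟩
  obtain ⟨P, hP⟩ := hzP.exists_le_sylow
  haveI : IsCyclic ↥((P : Subgroup Y).map φ) := by
    have := hcyc (P.mapSurjective hφ)
    rwa [Sylow.coe_mapSurjective] at this
  refine Cores.center_eq_bot_of_perfect_of_abelian_sylow hperf P ?_ hz (hP (Subgroup.mem_zpowers z))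
  refine commutative_of_cyclic_center_quotient (φ.subgroupMap (P : Subgroup Y)) fun g hg => ?_
  have hgc : (g : Y) ∈ Subgroup.center Y :=
    hk (congrArg Subtype.val (MonoidHom.mem_ker.mp hg) : φ (g : Y) = 1)
  exact Subgroup.mem_center_iff.mpr fun h => Subtype.ext (Subgroup.mem_center_iff.mp hgc (h : Y))

theorem psl_two_sylow_cyclic {F : Type*} [Field F] [Fintype F] [CharP F 2] {p : ℕ} [Fact p.Prime]
    (hp : p ≠ 2) (P : Sylow p (Matrix.ProjectiveSpecialLinearGroup (Fin 2) F)) :
    IsCyclic (P : Subgroup (Matrix.ProjectiveSpecialLinearGroup (Fin 2) F)) := by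
  haveI : Fact (Nat.Prime 2) := ⟨Nat.prime_two⟩
  have hs := QuotientGroup.mk'_surjective (Subgroup.center (Matrix.SpecialLinearGroup (Fin 2) F))
  obtain ⟨R⟩ : Nonempty (Sylow p (Matrix.SpecialLinearGroup (Fin 2) F)) := inferInstance
  haveI := Cfsg.Agent.S0262.result (F := F) 2 p hp hp R
  let Q := R.mapSurjective hs
  haveI : IsCyclic ↥(Q : Subgroup (Matrix.ProjectiveSpecialLinearGroup (Fin 2) F)) := by
    show IsCyclic ↥(R.mapSurjective hs).toSubgroup
    rw [Sylow.coe_mapSurjective]
    exact isCyclic_of_surjective _ (MonoidHom.subgroupMap_surjective _ _)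
  exact isCyclic_of_surjective _ (Q.equiv P).surjective

theorem suzuki_sylow_cyclic {F : Type*} [Field F] [Fintype F] {m : ℕ} (hm : 1 ≤ m)
    (hF : Fintype.card F = 2 ^ (2 * m + 1)) {p : ℕ} [Fact p.Prime] (hp : p ≠ 2)
    (P : Sylow p ↥(Cfsg.Lie.Sz F (2 ^ (m + 1)))) :
    IsCyclic (P : Subgroup ↥(Cfsg.Lie.Sz F (2 ^ (m + 1)))) := by
  haveI := CfsgLib.Suzuki.charP_two hF
  let e := CfsgLib.Suzuki.lieSzEquiv (F := F) hm hF
  obtain ⟨R⟩ : Nonempty (Sylow p ↥(Cfsg.Sz F m)) := inferInstance
  haveI := Cfsg.Agent.S0331.result hm hF hp R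
  have hs : Function.Surjective e.toMonoidHom := e.surjective
  let Q := R.mapSurjective hs
  haveI : IsCyclic ↥(Q : Subgroup ↥(Cfsg.Lie.Sz F (2 ^ (m + 1)))) := by
    show IsCyclic ↥(R.mapSurjective hs).toSubgroup
    rw [Sylow.coe_mapSurjective]
    exact isCyclic_of_surjective _ (MonoidHom.subgroupMap_surjective _ _)
  exact isCyclic_of_surjective _ (Q.equiv P).surjective

end Cyclic

/-- The reduced case. -/
theorem recognise_reduced {Y : Type u} [Group Y] [Finite Y] (hSE : SEHyp.{u})
    (hP : RankOneClassify.AllPPlus.{u}) (hp : RankOneClassify.Pieces.{u, u})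
    {S : Set Y} (hS : IsOddTranspositionSet S) (hone : OneClass S) {d x : Y} (hd : d ∈ S)
    (hx : x ∈ oddPartners S d) (hgen : Subgroup.closure (sameCommutingClass S d ∪ {x}) = ⊤)
    (hcore : pCore 2 Y = ⊥) :
    (∃ (F : Type) (_ : Field F) (_ : Fintype F), CharP F 2 ∧ 4 ≤ Fintype.card F ∧
      Nonempty (Y ≃* Matrix.ProjectiveSpecialLinearGroup (Fin 2) F)) ∨
    Cfsg.Lie.IsoSuzuki Y ∨ (∃ n : ℕ, Nonempty (Y ≃* DihedralGroup n)) := by
  by_cases htwo : ∃ e ∈ sameCommutingClass S d, e ≠ d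
  swap
  · have hE : sameCommutingClass S d = {d} := by
      refine Set.eq_singleton_iff_unique_mem.mpr ⟨mem_same_self hS hd, fun e he => ?_⟩
      by_contra h
      exact htwo ⟨e, he, h⟩
    rw [hE, Set.singleton_union] at hgen
    obtain ⟨i⟩ := Involution.nonempty_dihedral_equiv (hS.1.orderOf_eq d hd) (hS.1.orderOf_eq x hx.1)
    exact Or.inr (Or.inr ⟨_, ⟨Subgroup.topEquiv.symm.trans ((MulEquiv.subgroupCongr hgen.symm).trans i)⟩⟩)
  obtain ⟨e, he, hne⟩ := htwo
  have hde : e * d ∈ S := mul_mem_twins hS hd hx hgen hcore he (mem_same_self hS hd) hne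
  have hl : Line S e d := ⟨he.1, hd, hde⟩
  -- the component of `d` consists of the twins
  have hdis : ¬ IsConnectedSet (CommAdj S) S := by
    intro hc
    have hall : ∀ y, Relation.ReflTransGen (CommAdj S) d y → y ∈ sameCommutingClass S d := by
      intro y h
      induction h with
      | refl => exact mem_same_self hS hd
      | tail _ hadj ih =>
        exact mem_same_of_commute hS hd hx hgen hcore he hne hadj.2.1
          ((same_commute_iff ih hadj.2.1).mpr hadj.2.2.2.symm)
    exact not_commute_twin hS hd hx (hall x (hc d hd x hx.1)) (Commute.refl x)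
  set Z := twoZCore Y with hZ
  have hZc : Z ≤ Subgroup.center Y := by
    intro g hg
    rw [Subgroup.mem_center_iff]
    intro h
    have h1 : (↑(h * g) : Y ⧸ pCore 2 Y) = ↑(g * h) :=
      Subgroup.mem_center_iff.mp hg (h : Y ⧸ pCore 2 Y)
    rw [QuotientGroup.eq, hcore, Subgroup.mem_bot, inv_mul_eq_one] at h1
    exact h1
  have hperf : commutator Y = ⊤ := by
    have key : ∀ u ∈ S, u * e ∈ commutator Y := by
      intro u hu
      obtain ⟨g, rfl⟩ := hone e he.1 u hu
      have h1 : ⁅g, e⁆ ∈ commutator Y := Subgroup.commutator_mem_commutator (Subgroup.mem_top _) (Subgroup.mem_top _)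
      rwa [commutatorElement_def, inv_self hS.1 he.1] at h1
    have he1 : e ∈ commutator Y := by
      have h1 := mul_mem (key (e * d) hde) (key d hd)
      rw [show e * d * e * (d * e) = e * d * (e * d) * e by group, mul_self hS.1 hde, one_mul] at h1
      exact h1
    rw [eq_top_iff, ← hS.1.generates, Subgroup.closure_le]
    intro u hu
    have h1 := mul_mem (key u hu) he1
    rwa [mul_assoc, mul_self hS.1 he.1, mul_one] at h1
  -- an odd prime part of the centre of an extension of `L₂` or `Sz` is trivial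
  have kill : ∀ (K : Type) [Group K] [Finite K], (∀ (p : ℕ) [Fact p.Prime], p ≠ 2 →
      ∀ P : Sylow p K, IsCyclic (P : Subgroup K)) → Y ⧸ Z ≃* K → Nonempty (Y ≃* K) := by
    intro K _ _ hK i
    set φ := i.toMonoidHom.comp (QuotientGroup.mk' Z) with hφ
    have hs : Function.Surjective φ := i.surjective.comp (QuotientGroup.mk'_surjective Z)
    have hker : φ.ker = Z := by
      ext g
      simp [hφ, QuotientGroup.eq_one_iff]
    have hZ1 : Z = ⊥ := by
      refine Subgroup.eq_bot_of_card_eq _ (by_contra fun h1 => ?_)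
      obtain ⟨p, hpp, hpd⟩ := Nat.exists_prime_and_dvd h1
      haveI : Fact p.Prime := ⟨hpp⟩
      obtain ⟨z, hz⟩ := exists_prime_orderOf_dvd_card' (G := ↥Z) p hpd
      have hzc := hZc z.2
      have hzp : (z : Y) ^ p = 1 := by
        have := pow_orderOf_eq_one z
        rw [hz] at this
        exact congrArg Subtype.val this
      refine hpp.ne_one (hz ▸ orderOf_eq_one_iff.mpr (Subtype.ext ?_))
      by_cases h2 : p = 2
      · subst h2
        have hn : (Subgroup.zpowers (z : Y)).Normal := ⟨fun n hn g => by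
          rw [Subgroup.mem_center_iff.mp (Subgroup.zpowers_le.mpr hzc hn) g, mul_inv_cancel_right]
          exact hn⟩
        have hq : IsPGroup 2 (Subgroup.zpowers (z : Y)) := fun g => ⟨1, by
          obtain ⟨g, k, rfl⟩ := g
          apply Subtype.ext
          simp only [pow_one, SubgroupClass.coe_pow, OneMemClass.coe_one]
          rw [← zpow_natCast, ← zpow_mul, mul_comm, zpow_mul, zpow_natCast, hzp, one_zpow]⟩
        haveI : Fact (Nat.Prime 2) := ⟨Nat.prime_two⟩
        have h3 := LocalP.le_pCore hn hq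
        rw [hcore, le_bot_iff, Subgroup.zpowers_eq_bot] at h3
        exact h3
      · exact center_not_dvd hperf φ hs (hker.le.trans hZc) (hK p h2) hzc ⟨1, by rw [pow_one]; exact hzp⟩
    exact ⟨MulEquiv.ofBijective φ ⟨(MonoidHom.ker_eq_bot_iff φ).mp (hker.trans hZ1), hs⟩⟩
  rcases classify hS.1 hone hl hSE hP hp hdis with
    ⟨F, hFi, hFt, hc2, h4, ⟨i⟩⟩ | ⟨F, hFi, hFt, m, hm, hF, ⟨i⟩⟩ | ⟨F, hFi, hFt, q, hc2, hF, h4, ⟨i⟩⟩
  · letI := hFi; letI := hFt; haveI := hc2
    exact Or.inl ⟨F, hFi, hFt, hc2, h4, kill _ (fun p _ hp2 P => psl_two_sylow_cyclic hp2 P) i⟩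
  · letI := hFi; letI := hFt
    exact Or.inr (Or.inl ⟨F, hFi, hFt, m, hm, hF, kill _ (fun p _ hp2 P => suzuki_sylow_cyclic hm hF hp2 P) i⟩)
  · letI := hFi; letI := hFt; haveI := hc2
    exfalso
    set φ := i.toMonoidHom.comp (QuotientGroup.mk' Z) with hφ
    have hs : Function.Surjective φ := i.surjective.comp (QuotientGroup.mk'_surjective Z)
    refine psu_three_not_generated (F := F) hF (E := φ '' sameCommutingClass S d) ⟨_, d, mem_same_self hS hd, rfl⟩
      ?_ ?_ ?_ (x := φ x) (by rw [← map_mul, mul_self hS.1 hx.1, map_one]) ?_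
    · rintro _ ⟨g, hg, rfl⟩
      rw [← map_mul, mul_self hS.1 hg.1, map_one]
    · rintro _ ⟨g, hg, rfl⟩ _ ⟨g', hg', rfl⟩
      exact (same_commute hd hg hg').map φ
    · rintro _ ⟨g, hg, rfl⟩ h1
      refine notMem_twoZCore hS.1 hone hl hg.1 ?_
      have h2 : i (QuotientGroup.mk' Z g) = i 1 := h1.trans (map_one i).symm
      exact (QuotientGroup.eq_one_iff g).mp (i.injective h2)
    · rw [← Set.image_singleton (f := φ), ← Set.image_union, ← MonoidHom.map_closure, hgen,
        Subgroup.map_top_of_surjective _ hs]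

/-- The shape of S5051. -/
theorem recognise {G : Type u} [Group G] [Finite G] (hSE : SEHyp.{u})
    (hP : RankOneClassify.AllPPlus.{u}) (hp : RankOneClassify.Pieces.{u, u})
    {D : Set G} (hD : Cfsg.IsOddTranspositionSet D) {d x : G} (hd : d ∈ D)
    (hx : x ∈ Cfsg.oddPartners D d) :
    (∃ (F : Type) (_ : Field F) (_ : Fintype F), CharP F 2 ∧ 4 ≤ Fintype.card F ∧
      Nonempty ((↥(Subgroup.closure (Cfsg.sameCommutingClass D d ∪ {x})) ⧸
        Cfsg.pCore 2 ↥(Subgroup.closure (Cfsg.sameCommutingClass D d ∪ {x}))) ≃* Matrix.ProjectiveSpecialLinearGroup (Fin 2) F)) ∨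
    Cfsg.Lie.IsoSuzuki ((↥(Subgroup.closure (Cfsg.sameCommutingClass D d ∪ {x})) ⧸
        Cfsg.pCore 2 ↥(Subgroup.closure (Cfsg.sameCommutingClass D d ∪ {x})))) ∨
    (∃ n : ℕ, Nonempty ((↥(Subgroup.closure (Cfsg.sameCommutingClass D d ∪ {x})) ⧸
        Cfsg.pCore 2 ↥(Subgroup.closure (Cfsg.sameCommutingClass D d ∪ {x}))) ≃* DihedralGroup n)) := by
  obtain ⟨S, d', x', hS, hone, hd', hx', hgen, hcore⟩ := exists_reduced hD hd hx
  exact recognise_reduced hSE hP hp hS hone hd' hx' hgen hcore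

end CfsgLib.RootInv99
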